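import Mathlib.RingTheory.Finiteness.Descent
import Mathlib.RingTheory.Artinian.Ring
import Mathlib.LinearAlgebra.TensorProduct.RightExactness
import Mathlib.LinearAlgebra.FreeModule.Basic
import Mathlib.LinearAlgebra.Basis.VectorSpace
import Mathlib.Algebra.Module.Torsion.Basic
import Mathlib.LinearAlgebra.TensorProduct.Quotient

/-!
# Finite type descends along `B → B ⊗[A] B` over an Artinian local ring
-/

universe u

open TensorProduct

namespace Groth.Agent.MonoLft

theorem subsingleton_of_tensor {A : Type u} [CommRing A] [IsLocalRing A] [IsArtinianRing A]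
    (B M : Type u) [AddCommGroup B] [Module A B] [AddCommGroup M] [Module A M] [Nontrivial B]
    (h : Subsingleton (B ⊗[A] M)) : Subsingleton M := by
  obtain ⟨n, hn⟩ := IsArtinianRing.isNilpotent_jacobson_bot (R := A)
  rw [IsLocalRing.jacobson_eq_maximalIdeal ⊥ bot_ne_top] at hn
  -- nilpotent Nakayama
  have nak : ∀ {N : Type u} [AddCommGroup N] [Module A N],
      (⊤ : Submodule A N) ≤ IsLocalRing.maximalIdeal A • ⊤ → Subsingleton N := fun {N} _ _ hN => by
    have h1 : ∀ i, (⊤ : Submodule A N) ≤ IsLocalRing.maximalIdeal A ^ i • ⊤ := fun i => by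
      induction i with
      | zero => simp
      | succ i ih =>
        rw [pow_succ, Submodule.mul_smul]
        exact ih.trans (Submodule.smul_mono le_rfl hN)
    have h2 := h1 n
    rw [hn, Submodule.zero_eq_bot, Submodule.bot_smul] at h2
    exact ⟨fun a b => ((Submodule.mem_bot A).1 (h2 (Submodule.mem_top (x := a)))).trans
      ((Submodule.mem_bot A).1 (h2 (Submodule.mem_top (x := b)))).symm⟩
  let m := IsLocalRing.maximalIdeal A
  letI : Field (A ⧸ m) := Ideal.Quotient.field m
  let Q := B ⧸ (m • ⊤ : Submodule A B)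
  haveI : Nontrivial Q := by
    refine Submodule.Quotient.nontrivial_iff.2 fun hQ => ?_
    exact not_subsingleton B (nak hQ.ge)
  let b := Module.Free.chooseBasis (A ⧸ m) Q
  obtain ⟨i⟩ := b.index_nonempty
  let ℓ : B →ₗ[A] (A ⧸ m) := ((b.coord i).restrictScalars A).comp (Submodule.mkQ _)
  have hℓ : Function.Surjective ℓ := by
    intro c
    obtain ⟨v, hv⟩ := Submodule.mkQ_surjective _ (c • b i)
    refine ⟨v, ?_⟩
    show b.coord i (Submodule.mkQ _ v) = c
    rw [hv]
    simp
  haveI h0 : Subsingleton ((A ⧸ m) ⊗[A] M) := (LinearMap.rTensor_surjective M hℓ).subsingleton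
  haveI : Subsingleton (M ⧸ (m • ⊤ : Submodule A M)) :=
    (TensorProduct.quotTensorEquivQuotSMul M m).symm.toEquiv.subsingleton
  exact nak (Submodule.Quotient.subsingleton_iff.1 inferInstance).ge

theorem finiteType_of_tensor_self {A : Type u} [CommRing A] [IsLocalRing A] [IsArtinianRing A]
    (B : Type u) [CommRing B] [Algebra A B] [h : Algebra.FiniteType B (B ⊗[A] B)] :
    Algebra.FiniteType A B := by
  rcases subsingleton_or_nontrivial B with hB | hB
  · exact Algebra.FiniteType.of_surjective (Algebra.ofId A B) fun x => ⟨0, Subsingleton.elim _ _⟩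
  obtain ⟨s, hs⟩ := h.out
  have (x : s) := TensorProduct.exists_sum_tmul_eq x.1
  choose k t m hm using this
  let f : MvPolynomial (Σ x : s, Fin (k x)) A →ₐ[A] B := MvPolynomial.aeval fun ⟨x, i⟩ ↦ m x i
  have hf : Function.Surjective (Algebra.TensorProduct.map (AlgHom.id B B) f) := by
    rw [← AlgHom.range_eq_top, _root_.eq_top_iff, ← hs, Algebra.adjoin_le_iff]
    intro x hx
    let i : s := ⟨x, hx⟩
    use ∑ j : Fin (k i), t i j ⊗ₜ MvPolynomial.X ⟨i, j⟩
    simp [f, ← hm, i]
  let N : Submodule A B := LinearMap.range f.toLinearMap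
  have hN : Subsingleton (B ⊗[A] (B ⧸ N)) := by
    refine ⟨fun a b => ?_⟩
    have key : ∀ z : B ⊗[A] (B ⧸ N), z = 0 := fun z => by
      obtain ⟨w, rfl⟩ := LinearMap.lTensor_surjective B (Submodule.mkQ_surjective N) z
      obtain ⟨v, rfl⟩ := hf w
      induction v using TensorProduct.induction_on with
      | zero => simp
      | tmul c p =>
        rw [Algebra.TensorProduct.map_tmul, LinearMap.lTensor_tmul]
        rw [show N.mkQ (f p) = 0 from (Submodule.Quotient.mk_eq_zero _).2 ⟨p, rfl⟩, tmul_zero]
      | add p q hp hq => rw [map_add, map_add, hp, hq, add_zero]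
    rw [key a, key b]
  have := subsingleton_of_tensor B (B ⧸ N) hN
  exact Algebra.FiniteType.of_surjective f fun x =>
    (Submodule.Quotient.mk_eq_zero N).1 (Subsingleton.elim (Submodule.Quotient.mk x) 0)

end Groth.Agent.MonoLft
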