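import Groth.Agent.MonoLft.Ring
import Mathlib.AlgebraicGeometry.Morphisms.FiniteType
import Mathlib.AlgebraicGeometry.Pullbacks
import Mathlib.AlgebraicGeometry.Morphisms.Immersion

/-!
# Local finite type descends along `U ×_V U → U` when `V` is covered by Artinian local schemes
-/

universe u

set_option backward.isDefEq.respectTransparency false
set_option backward.isDefEq.respectTransparency.types false

open CategoryTheory CategoryTheory.Limits AlgebraicGeometry

namespace Groth.Agent.MonoLft

theorem lft_Spec {A B : CommRingCat.{u}} [IsArtinianRing A] [IsLocalRing A] (φ : A ⟶ B)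
    (h : LocallyOfFiniteType (pullback.fst (Spec.map φ) (Spec.map φ))) : LocallyOfFiniteType (Spec.map φ) := by
  algebraize [φ.hom]
  refine (HasRingHomProperty.Spec_iff (P := @LocallyOfFiniteType)).2 ?_
  have e : Spec.map (CommRingCat.ofHom (algebraMap A B)) = Spec.map φ := rfl
  have h1 : LocallyOfFiniteType
      (Spec.map (CommRingCat.ofHom (Algebra.TensorProduct.includeLeftRingHom : B →+* TensorProduct A B B))) := by
    rw [← pullbackSpecIso_inv_fst A B B]
    have : LocallyOfFiniteType (pullback.fst (Spec.map (CommRingCat.ofHom (algebraMap A B))) (Spec.map (CommRingCat.ofHom (algebraMap A B)))) := h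
    infer_instance
  have h2 : (Algebra.TensorProduct.includeLeftRingHom : B →+* TensorProduct A B B).FiniteType :=
    (HasRingHomProperty.Spec_iff (P := @LocallyOfFiniteType)).1 h1
  have h3 : Algebra.FiniteType B (TensorProduct A B B) := by
    have h4 : (algebraMap B (TensorProduct A B B)).FiniteType := h2
    exact RingHom.finiteType_algebraMap.1 h4
  exact RingHom.finiteType_algebraMap.2 (finiteType_of_tensor_self (A := A) B (h := h3))

theorem lft_of_isAffine {U V : Scheme.{u}} [IsAffine U] [IsAffine V] (h : U ⟶ V)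
    [IsArtinianRing Γ(V, ⊤)] [IsLocalRing Γ(V, ⊤)] (hp : LocallyOfFiniteType (pullback.fst h h)) :
    LocallyOfFiniteType h := by
  have e : h = U.isoSpec.hom ≫ Spec.map h.appTop ≫ V.isoSpec.inv := by
    rw [← Category.assoc, Iso.eq_comp_inv]
    exact (Scheme.isoSpec_hom_naturality h).symm
  let m := pullback.map (Spec.map h.appTop) (Spec.map h.appTop) h h U.isoSpec.inv U.isoSpec.inv V.isoSpec.inv
    (by rw [Iso.eq_inv_comp]; exact e.symm) (by rw [Iso.eq_inv_comp]; exact e.symm)
  have hm : IsIso m := pullback.map_isIso _ _ _ _ _ _ _ _ _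
  have h2 : pullback.fst (Spec.map h.appTop) (Spec.map h.appTop) = (m ≫ pullback.fst h h) ≫ U.isoSpec.hom := by
    rw [show m ≫ pullback.fst h h = pullback.fst _ _ ≫ U.isoSpec.inv from pullback.lift_fst _ _ _, Category.assoc,
      Iso.inv_hom_id, Category.comp_id]
  haveI := lft_Spec h.appTop (by rw [h2]; infer_instance)
  rw [e]
  infer_instance

theorem lft_of_pullback_fst {U V : Scheme.{u}} (h : U ⟶ V)
    (hV : ∀ v : V, ∃ D : V.Opens, v ∈ D ∧ IsAffineOpen D ∧ IsArtinianRing Γ(V, D) ∧ IsLocalRing Γ(V, D))
    (hp : LocallyOfFiniteType (pullback.fst h h)) : LocallyOfFiniteType h := by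
  choose D hvD hDa hDA hDL using hV
  refine (IsZariskiLocalAtTarget.iff_of_iSup_eq_top (P := (@LocallyOfFiniteType : MorphismProperty Scheme.{u})) D
    (_root_.eq_top_iff.2 fun v _ => TopologicalSpace.Opens.mem_iSup.2 ⟨v, hvD v⟩)).2 fun v => ?_
  let W := (h ⁻¹ᵁ D v).toScheme
  refine (IsZariskiLocalAtSource.iff_of_openCover (P := (@LocallyOfFiniteType : MorphismProperty Scheme.{u})) W.affineCover).2 fun i => ?_
  let q := W.affineCover.f i ≫ (h ∣_ D v)
  let p := W.affineCover.f i ≫ (h ⁻¹ᵁ D v).ι
  have hq : q ≫ (D v).ι = p ≫ h := by simp [q, p, morphismRestrict_ι]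
  haveI : IsAffine (D v).toScheme := hDa v
  let e : Γ(V, D v) ≃+* Γ((D v).toScheme, ⊤) := (D v).topIso.commRingCatIsoToRingEquiv.symm
  haveI := hDA v
  haveI := hDL v
  haveI : IsArtinianRing Γ((D v).toScheme, ⊤) := Function.Surjective.isArtinianRing (f := e.toRingHom) e.surjective
  haveI : IsLocalRing Γ((D v).toScheme, ⊤) := e.isLocalRing
  let m := pullback.map q q h h p p (D v).ι hq hq
  haveI hm : IsOpenImmersion m := inferInstance
  haveI : LocallyOfFiniteType (pullback.fst q q ≫ p) := by
    have : pullback.fst q q ≫ p = m ≫ pullback.fst h h := by simp [m]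
    rw [this]
    haveI := hp
    infer_instance
  exact lft_of_isAffine q (locallyOfFiniteType_of_comp _ p)

end Groth.Agent.MonoLft
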